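import Cfsg.Agent.ZP.Rk2B
import Cfsg.Agent.S1447
import Cfsg.Agent.S2807
import Cfsg.Agent.Transfer.Focal
import Cfsg.Agent.Transfer.Yoshida
import Cfsg.Agent.PLocal.IsolatedP

/-! Perfect groups of `p`-rank two: the normaliser of a Sylow `p`-subgroup controls transfer. -/

set_option autoImplicit false

namespace Cfsg.Agent.ZP.Rk2

open Cfsg Subgroup FGS.LcsLie PLocal.Amb
open scoped commutatorElement

universe u

variable {X : Type u} [Group X] [Finite X] {p : ℕ} [hp : Fact p.Prime]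

theorem inf_commutator_eq (S : Sylow p X) (h : YF p (S : Subgroup X)) :
    (S : Subgroup X) ⊓ commutator X = (S : Subgroup X) ⊓ ⁅𝐍[(S : Subgroup X)], 𝐍[(S : Subgroup X)]⁆ := by
  refine Transfer.inf_commutator_eq_of_inf_pResidual_eq S le_normalizer (by_contra fun hc => ?_)
  obtain ⟨u, hu, z, hz, W₀, hW, hi, lam, hy, hl⟩ :=
    Transfer.yoshida S (Transfer.isWeaklyClosed_self _) hc
  have := h (W₀.subgroupOf S) ((lam.ker.map W₀.subtype).subgroupOf S) hi
    (fun v hv => ⟨⟨v, hv⟩ ^ p, by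
      rw [SetLike.mem_coe, MonoidHom.mem_ker, map_pow]
      have := pow_card_eq_one' (x := lam ⟨v, hv⟩)
      rwa [Nat.card_congr Multiplicative.toAdd, Nat.card_zmod] at this, rfl⟩)
    (fun u hu v hv => ⟨⁅(⟨u, hu⟩ : W₀), ⟨v, hv⟩⁆, by
      rw [SetLike.mem_coe, MonoidHom.mem_ker, map_commutatorElement,
        commutatorElement_eq_one_iff_mul_comm, mul_comm], rfl⟩)
    (S2807.iter_mem (⟨u, hu⟩ : (S : Subgroup X)) ⟨z, hz⟩ (p - 1))
  obtain ⟨a, ha, ha2⟩ := this
  refine hl ((congrArg lam (Subtype.ext ?_)).trans ha)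
  exact (ha2.trans (S2807.iter_map (S : Subgroup X).subtype ⟨u, hu⟩ ⟨z, hz⟩ (p - 1))).symm

/-- The automorphisms of `S` induced by its normaliser. -/
def Aut (S : Subgroup X) : Set (MulAut S) :=
  {α | ∃ g ∈ 𝐍[S], ∀ t : S, (α t : X) = g * t * g⁻¹}

omit [Finite X] in
theorem exists_aut {S : Subgroup X} {g : X} (hg : g ∈ 𝐍[S]) :
    ∃ α ∈ Aut S, ∀ t : S, (α t : X) = g * t * g⁻¹ :=
  ⟨S.normalizerMonoidHom ⟨g, hg⟩, ⟨g, hg, fun _ => rfl⟩, fun _ => rfl⟩

theorem nf_of_le (S : Sylow p X)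
    (h : (S : Subgroup X) ≤ ⁅𝐍[(S : Subgroup X)], 𝐍[(S : Subgroup X)]⁆) :
    NF (Aut (S : Subgroup X)) := by
  intro Φ hc hΦ a ha
  set N := 𝐍[(S : Subgroup X)] with hN
  let f : (S : Subgroup X) →* N := inclusion le_normalizer
  have hf : Function.Injective f := inclusion_injective _
  have : (Φ.map f).Normal := ⟨by
    rintro _ ⟨b, hb, rfl⟩ g
    obtain ⟨α, hα, e⟩ := exists_aut g.2
    exact ⟨α b, hΦ α hα b hb, Subtype.ext (e b)⟩⟩
  let π := QuotientGroup.mk' (Φ.map f)
  have hz : π (f a) ∈ center (N ⧸ Φ.map f) := mem_center_iff.2 fun q => by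
    obtain ⟨g, rfl⟩ := QuotientGroup.mk'_surjective _ q
    obtain ⟨α, hα, e⟩ := exists_aut g.2
    rw [← commutatorElement_eq_one_iff_mul_comm, ← map_commutatorElement]
    exact (QuotientGroup.eq_one_iff _).2 ⟨_, ha α hα, Subtype.ext (by
      change ((α a * a⁻¹ : (S : Subgroup X)) : X) = g * a * (g : X)⁻¹ * (a : X)⁻¹
      rw [coe_mul, e, coe_inv])⟩
  have hm : π (f a) ∈ commutator (N ⧸ Φ.map f) := by
    have h1 := h a.2
    rw [← map_subtype_commutator] at h1
    obtain ⟨b, hb, e⟩ := h1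
    have : f a = b := Subtype.ext e.symm
    rw [this]
    have h2 := mem_map_of_mem π hb
    rw [commutator_def, map_commutator] at h2
    exact commutator_mono le_top le_top h2
  have h1 := Transfer.pow_index_mem_commutator_of_central (π.comp f).range hz hm
  have h2 : ⁅(π.comp f).range, (π.comp f).range⁆ = ⊥ := by
    rw [eq_bot_iff, commutator_le]
    rintro _ ⟨u, rfl⟩ _ ⟨v, rfl⟩
    rw [← map_commutatorElement]
    exact (QuotientGroup.eq_one_iff _).2
      ⟨_, hc (commutator_mem_commutator (mem_top u) (mem_top v)), rfl⟩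
  rw [h2, mem_bot] at h1
  have h3 : (π.comp f).range.index ∣ (S : Subgroup X).index := by
    rw [MonoidHom.range_comp]
    refine (index_map_dvd _ (QuotientGroup.mk'_surjective _)).trans ?_
    rw [inclusion_range]
    exact relIndex_dvd_index_of_le le_normalizer
  obtain ⟨k, hk⟩ := S.isPGroup' a
  have h4 : π (f a) ^ p ^ k = 1 := by rw [← map_pow, ← map_pow, hk, map_one, map_one]
  have h5 := Nat.dvd_gcd (orderOf_dvd_of_pow_eq_one h1) (orderOf_dvd_of_pow_eq_one h4)
  rw [(((Transfer.sylow_index_coprime S).coprime_dvd_left h3).pow_right k).gcd_eq_one, Nat.dvd_one,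
    orderOf_eq_one_iff] at h5
  obtain ⟨b, hb, e⟩ := (QuotientGroup.eq_one_iff _).1 h5
  exact hf e ▸ hb

theorem comm_of_meta (hp2 : p ≠ 2) (S : Sylow p X) (h : NF (Aut (S : Subgroup X)))
    (hm : IsMetacyclic (S : Subgroup X)) : IsMulCommutative (S : Subgroup X) := by
  set N := 𝐍[(S : Subgroup X)] with hN
  have hco : (Nat.card ((S : Subgroup X).subgroupOf N)).Coprime ((S : Subgroup X).subgroupOf N).index := by
    obtain ⟨k, hk⟩ := (S.isPGroup'.comap_subtype (K := N)).exists_card_eq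
    rw [show Nat.card ((S : Subgroup X).subgroupOf N) = p ^ k from hk]
    exact (((Transfer.sylow_index_coprime S).coprime_dvd_left
      (relIndex_dvd_index_of_le le_normalizer)).pow_right k).symm
  obtain ⟨H, hH⟩ := exists_right_complement'_of_coprime hco
  have hA : (Nat.card (H.map N.subtype)).Coprime p := by
    rw [card_map_of_injective N.subtype_injective, ← hH.symm.index_eq_card]
    exact (Transfer.sylow_index_coprime S).coprime_dvd_left (relIndex_dvd_index_of_le le_normalizer)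
  have hK := (S1447.result p hp2 _ (H.map N.subtype) S.isPGroup' hm (map_subtype_le H) hA).1
  set K := ⁅(S : Subgroup X), H.map N.subtype⁆
  have key : ∀ α ∈ Aut (S : Subgroup X), ∀ a : (S : Subgroup X),
      α a * a⁻¹ ∈ K.subgroupOf S ⊔ commutator (S : Subgroup X) := by
    rintro α ⟨g, hg, e⟩ a
    obtain ⟨⟨s, t⟩, hst⟩ := hH.2 ⟨g, hg⟩
    obtain ⟨β, -, e'⟩ := exists_aut (S := (S : Subgroup X)) t.1.2
    have hg' : g = s.1 * t.1 := (congrArg Subtype.val hst).symm
    have : α a * a⁻¹ = ⁅(⟨s.1, s.2⟩ : (S : Subgroup X)), β a⁆ * (β a * a⁻¹) := by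
      apply Subtype.ext
      simp only [commutatorElement_def, coe_mul, coe_inv, e, e', hg']
      group
    rw [this]
    refine mul_mem (mem_sup_right (commutator_mem_commutator (mem_top _) (mem_top _)))
      (mem_sup_left ?_)
    rw [mem_subgroupOf, coe_mul, coe_inv, e']
    exact comm_symm (commutator_mem_commutator a.2 ⟨t.1, t.2, rfl⟩)
  have h1 : K.subgroupOf S ⊔ commutator (S : Subgroup X) = ⊤ :=
    eq_top_iff.2 fun a _ => h _ le_sup_right (fun α hα b hb => by
      simpa using mul_mem (key α hα b) hb) a fun α hα => key α hα a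
  have h2 : K.subgroupOf S = ⊤ := frattini_nongenerating (eq_top_iff.2 (h1.ge.trans
    (sup_le_sup_left (Grp.PFrattini.commutator_le_frattini S.isPGroup') _)))
  exact Grp.PChain.isMulCommutative_of_le hK (subgroupOf_eq_top.1 h2)

theorem inner (hp2 : p ≠ 2) (hX : commutator X = ⊤) (hr : PRankLE p 2 X) (S : Sylow p X) {y : X}
    (hy : y ∈ (S : Subgroup X)) (hyp : orderOf y = p) (hiso : IsIsolated y) :
    (IsExtraspecial p (S : Subgroup X) ∧ Nat.card (S : Subgroup X) = p ^ 3 ∧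
      ∀ y ∈ (S : Subgroup X), y ^ p = 1) ∨
      (p = 3 ∧ ∃ k : ℕ, 2 ≤ k ∧ Nat.card (S : Subgroup X) = 3 ^ (2 * k + 1) ∧
        ∃ _ : Group.IsNilpotent (S : Subgroup X),
          Group.nilpotencyClass (S : Subgroup X) = 2 * k) := by
  have hr' : PRankLE p 2 (S : Subgroup X) :=
    FT.R2.pRankLE_of_injective _ (S : Subgroup X).subtype_injective hr
  have h1 := inf_commutator_eq S (yf_of_rank hp2 S.isPGroup' hr')
  rw [hX, inf_top_eq, left_eq_inf] at h1
  have hΓ := nf_of_le S h1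
  have hx : ∀ α ∈ Aut (S : Subgroup X), α ⟨y, hy⟩ = ⟨y, hy⟩ := by
    rintro α ⟨g, hg, e⟩
    exact Subtype.ext ((e _).trans
      (PLocal.iso_conj_eq hiso S.isPGroup' hy ((mem_normalizer_iff.1 hg y).1 hy)))
  have hxp : orderOf (⟨y, hy⟩ : (S : Subgroup X)) = p := by rw [← orderOf_coe, hyp]
  have hm : ¬ IsMetacyclic (S : Subgroup X) := fun hm => by
    have := comm_of_meta hp2 S hΓ hm
    have := hΓ ⊥ (by rw [le_bot_iff, commutator_eq_bot]) (fun α _ a ha => by
      rw [mem_bot.1 ha, map_one]; exact one_mem _) ⟨y, hy⟩ fun α hα => by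
      rw [hx α hα, mul_inv_cancel]; exact one_mem _
    rw [mem_bot.1 this, orderOf_one] at hxp
    exact hp.out.one_lt.ne hxp
  refine (final hp2 S.isPGroup' hr' hm hΓ hx (mem_center_iff.2 fun g => Subtype.ext ?_) hxp).imp_left
    fun h => ⟨FT.R2.isExtraspecial_of_card_cube h.2.1 h.1, h.2.1,
      fun z hz => congrArg Subtype.val (h.2.2 ⟨z, hz⟩)⟩
  exact mem_centralizer_singleton_iff.1 (PLocal.iso_le_centralizer hiso S.isPGroup' hy g.2)

end Cfsg.Agent.ZP.Rk2
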