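import Cfsg.Agent.ZP.Rk2A
import Cfsg.Agent.S3888

/-! `3`-groups of maximal class and rank two; failure of Yoshida's conclusion in rank two. -/

set_option autoImplicit false

namespace Cfsg.Agent.ZP.Rk2

open Cfsg Subgroup FGS.LcsLie Fus.MC Grp.PChain
open scoped commutatorElement

universe u

variable {T : Type u} [Group T] [Finite T] {p n : ℕ}

section MC

variable [Fact (Nat.Prime 3)] (h : IsMC 3 n T)
include h

theorem comm_K {u v : T} (hu : u ∈ K T 1) {i : ℕ} (hi : 1 ≤ i) (hv : v ∈ gam T i) :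
    ⁅u, v⁆ ∈ gam T (i + 2) := by
  by_cases hn : i + 3 ≤ n
  · exact h.K_one_le_of_three i hi hn hu v hv
  · have := comm_mem_succ hv u
    rw [h.gam_eq_bot_iff.2 (by omega), mem_bot] at this
    rw [this]; exact one_mem _

theorem cube_congr {u v : T} (hu : u ∈ K T 1) {i : ℕ} (hi : 1 ≤ i) (hv : u⁻¹ * v ∈ gam T i) :
    (u ^ 3)⁻¹ * v ^ 3 ∈ gam T (i + 2) := by
  obtain ⟨d, rfl⟩ : ∃ d, v = u * d := ⟨u⁻¹ * v, by simp⟩
  rw [inv_mul_cancel_left] at hv
  rw [← QuotientGroup.eq]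
  have h1 : Commute (u : T ⧸ gam T (i + 2)) d := by
    rw [← commutatorElement_eq_one_iff_commute]
    exact (QuotientGroup.eq_one_iff _).2 (comm_K h hu hi hv)
  have h2 : (d : T ⧸ gam T (i + 2)) ^ 3 = 1 :=
    (QuotientGroup.eq_one_iff _).2 (h.pow_mem_gam hi hv)
  rw [QuotientGroup.mk_pow, QuotientGroup.mk_pow, QuotientGroup.mk_mul, h1.mul_pow, h2, mul_one]

theorem pow_congr {u v : T} (hu : u ∈ K T 1) (hv : u⁻¹ * v ∈ gam T 1) (k : ℕ) :
    (u ^ 3 ^ k)⁻¹ * v ^ 3 ^ k ∈ gam T (1 + 2 * k) := by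
  induction k with
  | zero => simpa using hv
  | succ k ih =>
    rw [pow_succ, pow_mul, pow_mul]
    exact cube_congr h (i := 1 + 2 * k) (pow_mem hu _) (by omega) ih

theorem card_K (h4 : 4 ≤ n) : Nat.card (K T 1) = 3 ^ (n - 1) := by
  have h1 := card_mul_index (K T 1)
  rw [h.index_K le_rfl h4, h.card, show n = n - 1 + 1 by omega, pow_succ] at h1
  exact Nat.eq_of_mul_eq_mul_right (by norm_num) h1

theorem exists_K (h4 : 4 ≤ n) : ∃ s ∈ K T 1, s ∉ gam T 1 := by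
  by_contra hc
  push Not at hc
  have := card_le_of_le (show K T 1 ≤ gam T 1 from hc)
  rw [card_K h h4, h.card_gam le_rfl, Nat.pow_le_pow_iff_right (by norm_num)] at this
  omega

theorem exists_cube (hr : PRankLE 3 2 T) (h4 : 4 ≤ n) : ∃ u ∈ K T 1, u ^ 3 ∉ gam T 3 := by
  by_contra hc
  push Not at hc
  rcases h4.eq_or_lt with rfl | h5
  · have h3 : gam T 3 = ⊥ := h.gam_eq_bot_iff.2 le_rfl
    obtain ⟨s, hs, hs'⟩ := exists_K h le_rfl
    have he := h.eq_sup (h.K_ne_top le_rfl) (gam_one_le_K 1) hs hs'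
    have hcomm : ∀ u ∈ K T 1, ∀ v ∈ gam T 1, u * v = v * u := fun u hu v hv => by
      have := hu v hv
      rwa [h3, mem_bot, commutatorElement_eq_one_iff_mul_comm] at this
    have := hr (K T 1) (he ▸ isMulCommutative_sup_zpowers (isMulCommutative_of_commute
      fun a ha b hb => hcomm a (gam_one_le_K 1 ha) b hb) fun v hv => (hcomm s hs v hv).symm)
      fun a ha => mem_bot.1 (h3 ▸ hc a ha)
    rw [card_K h le_rfl] at this
    norm_num at this
  · have := h.card_le_pow_of_le h.K_one_le_of_three h5 hc le_rfl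
    rw [card_K h h4, h.card_gam (by norm_num), ← pow_add,
      Nat.pow_le_pow_iff_right (by norm_num)] at this
    omega

theorem cube_mem (h4 : 4 ≤ n) (u : T) : u ^ 3 ∈ gam T 2 := by
  have := h.pow_mem_gam_zero u
  rwa [min_eq_left (by omega)] at this

theorem yf_mc (hr : PRankLE 3 2 T) (h4 : 4 ≤ n) : YF 3 T := fun W₀ W hi hW hC => by
  obtain ⟨s, hs⟩ := h.exists_U
  by_cases hK : W₀ ≤ K T 1
  · have he : W₀ = K T 1 := by
      refine (FGS.isCoatom_of_prime_index (hi ▸ Fact.out)).le_iff.1 hK |>.resolve_left ?_ |>.symm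
      exact h.K_ne_top h4
    obtain ⟨u, hu, hu'⟩ := exists_cube h hr h4
    let V : Subgroup T := closure {y | ∃ v ∈ K T 1, y = v ^ 3}
    have hV : V.Normal := by
      refine ⟨fun y hy g => ?_⟩
      refine (closure_le (V.comap (MulAut.conj g).toMonoidHom)).2 ?_ hy
      rintro _ ⟨v, hv, rfl⟩
      exact subset_closure ⟨g * v * g⁻¹, (K_normal 1).conj_mem v hv g, conj_pow.symm⟩
    refine (FGS.MaxClSylow.gam_le h hs (W := V) (fun w hw => ?_) n 2 (by norm_num) (by omega) _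
      (subset_closure ⟨u, hu, rfl⟩) (cube_mem h h4 u) hu').trans ((closure_le _).2 ?_)
    · exact mul_mem (hV.conj_mem w hw s) (inv_mem hw)
    · rintro _ ⟨v, hv, rfl⟩
      exact hW v (he ▸ hv)
  · obtain ⟨t, ht, ht'⟩ := SetLike.not_le_iff_exists.1 hK
    have h1 : gam T 1 ≤ W₀ := Grp.PFrattini.commutator_le_of_isCoatom h.isPGroup
      (FGS.isCoatom_of_prime_index (hi ▸ Fact.out))
    obtain ⟨v, hv, hv'⟩ := h.exists_not_mem (k := 1) (by omega)
    refine (FGS.MaxClSylow.gam_le h (h.U_of_not_mem h.K_one_le_of_three ht') (W := W ⊓ W₀)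
      (fun w hw => ⟨hC t ht w hw.2, h1 (comm_mem_succ (j := 0) (mem_top w) t)⟩) n 2 (by norm_num)
      (by omega) ⁅t, v⁆ ⟨hC t ht v (h1 hv), h1 (comm_mem_succ (j := 0) (mem_top v) t)⟩
      (comm_mem_succ hv t) fun e => hv' (h.mem_succ le_rfl ht' hv e)).trans inf_le_left

theorem pow_level (h4 : 4 ≤ n) (u : T) (k : ℕ) :
    u ^ 3 ^ (k + 1) ∈ gam T (2 * (k + 1)) ∧
      (u ^ 3 ∉ gam T 3 → 2 * (k + 1) + 2 ≤ n → u ^ 3 ^ (k + 1) ∉ gam T (2 * (k + 1) + 1)) := by
  induction k with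
  | zero => exact ⟨by simpa using cube_mem h h4 u, fun hu _ => by simpa using hu⟩
  | succ k ih =>
    rw [pow_succ, pow_mul]
    exact ⟨h.pow_mem_gam (j := 2 * (k + 1)) (by omega) ih.1, fun hu hn =>
      h.pow_not_mem (j := 2 * (k + 1)) (by omega) ih.1 (ih.2 hu (by omega)) (by omega)⟩

theorem odd_of_mc (hr : PRankLE 3 2 T) (h4 : 4 ≤ n) {Γ : Set (MulAut T)} (hΓ : NF Γ)
    {x : T} (hx : ∀ α ∈ Γ, α x = x) (hxc : x ∈ center T) (hxp : orderOf x = 3) : Odd n := by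
  rw [← Nat.not_even_iff_odd]
  rintro ⟨k, hk⟩
  obtain ⟨k, rfl⟩ : ∃ j, k = j + 2 := ⟨k - 2, by omega⟩
  have hZ : zpowers x = center T := eq_of_le_of_card_ge (zpowers_le.2 hxc)
    (by rw [h.card_center, Nat.card_zpowers, hxp])
  have hcong : ∀ u ∈ K T 1, ∀ v, u⁻¹ * v ∈ gam T 1 → v ^ 3 ^ (k + 1) = u ^ 3 ^ (k + 1) := by
    intro u hu v hv
    have := pow_congr h hu hv (k + 1)
    rwa [h.gam_eq_bot_iff.2 (by omega), mem_bot, inv_mul_eq_one, eq_comm] at this
  obtain ⟨s, hs, hs'⟩ := exists_K h h4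
  have he := h.eq_sup (h.K_ne_top h4) (gam_one_le_K 1) hs hs'
  have hex : ∀ a ∈ K T 1, ∃ i : ℤ, ((s ^ i : T) : T ⧸ gam T 1) = a := by
    intro a ha
    rw [he] at ha
    obtain ⟨g, hg, i, rfl⟩ := mem_sup_zpowers.1 ha
    exact ⟨i, by rw [QuotientGroup.mk_mul, (QuotientGroup.eq_one_iff g).2 hg, one_mul]⟩
  obtain ⟨u, hu, hu'⟩ := exists_cube h hr h4
  have := hΓ.pow_eq_one hx (K T 1) (fun α _ a ha y hy => ?_) (3 ^ (k + 1)) (fun a ha b hb => ?_)
    (fun d hd => ⟨gam_one_le_K 1 hd, ?_⟩) (fun a _ => ?_) u hu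
  · exact (pow_level h h4 u k).2 hu' (by omega) (this ▸ one_mem _)
  · have h1 : α.symm y ∈ gam T 1 := (characteristic_iff_le_comap.1 inferInstance α.symm) hy
    have h2 := (characteristic_iff_le_comap.1 inferInstance α) (ha _ h1)
    rw [mem_comap, map_commutatorElement] at h2
    simpa using h2
  · obtain ⟨i, hi⟩ := hex a ha
    obtain ⟨j, hj⟩ := hex b hb
    rw [hcong _ (zpow_mem hs i) a (QuotientGroup.eq.1 hi),
      hcong _ (zpow_mem hs j) b (QuotientGroup.eq.1 hj),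
      hcong _ (mul_mem (zpow_mem hs i) (zpow_mem hs j)) (a * b)
        (QuotientGroup.eq.1 (by rw [QuotientGroup.mk_mul, QuotientGroup.mk_mul, hi, hj])),
      (Commute.zpow_zpow_self s i j).mul_pow]
  · rw [hcong 1 (one_mem _) d (by rwa [inv_one, one_mul]), one_pow]
  · rw [hZ, h.center_eq, show n - 2 = 2 * (k + 1) by omega]
    exact (pow_level h h4 a k).1

end MC

variable [hp : Fact p.Prime]

theorem yf_of_le {k : ℕ} (hk : k ≤ p - 1) (h : gam T k = ⊥) : YF p T := fun _ _ _ _ _ =>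
  (gam_anti hk).trans (h ▸ bot_le)

theorem yf_meta (hp2 : p ≠ 2) (hT : IsPGroup p T) (hm : IsMetacyclic T) : YF p T := by
  have h2 := hp.out.two_le
  by_cases h1 : gam T 1 = ⊥
  · exact yf_of_le (by omega) h1
  intro W₀ W hi hW _
  have := hT.isNilpotent
  have hlt := Grp.MaxClass.lcs_succ_lt 1 h1
  obtain ⟨d, hd⟩ := (isCyclic_iff_exists_zpowers_eq_top.1
    (FT.R2.isCyclic_commutator_of_isMetacyclic hm))
  have hd' : zpowers (d : T) = gam T 1 := by
    rw [← coe_subtype, ← MonoidHom.map_zpowers, hd, ← MonoidHom.range_eq_map, range_subtype]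
    rfl
  have h0 : gam T 1 ≤ W₀ := Grp.PFrattini.commutator_le_of_isCoatom hT
    (FGS.isCoatom_of_prime_index (hi ▸ hp.out))
  refine (gam_anti (show 2 ≤ p - 1 by omega)).trans fun y hy => ?_
  obtain ⟨k, rfl⟩ := (mem_powers_iff_mem_zpowers.2 (hd' ▸ hlt.le hy : y ∈ zpowers (d : T)) :)
  by_cases hk : p ∣ k
  · obtain ⟨j, rfl⟩ := hk
    simp only [mul_comm p, pow_mul]
    exact hW _ (h0 (pow_mem d.2 _))
  · refine absurd (hd' ▸ zpowers_le.2 ?_ : gam T 1 ≤ gam T 2) hlt.not_ge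
    obtain ⟨e, he⟩ := hT (d : T)
    have hc : k.Coprime (orderOf (d : T)) := Nat.Coprime.coprime_dvd_right
      (orderOf_dvd_of_pow_eq_one he) ((hp.out.coprime_iff_not_dvd.2 hk).symm.pow_right e)
    obtain ⟨m, hm⟩ := exists_pow_eq_self_of_coprime hc
    rw [← hm]
    exact pow_mem hy m

theorem isMC_of_ne (hT : Nat.card T = p ^ n) (h3 : 3 ≤ n) (h : gam T (n - 2) ≠ ⊥) : IsMC p n T := by
  have := (IsPGroup.of_card hT).isNilpotent
  rw [Ne, Subgroup.lowerCentralSeries_eq_bot_iff_nilpotencyClass_le] at h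
  have := S0063.result p n hT (by omega)
  exact ⟨hT, by omega, h3⟩

theorem gam_eq_bot (hT : Nat.card T = p ^ n) (h2 : 2 ≤ n) : gam T (n - 1) = ⊥ := by
  have := (IsPGroup.of_card hT).isNilpotent
  exact Subgroup.lowerCentralSeries_eq_bot_iff_nilpotencyClass_le.2 (S0063.result p n hT h2)

/-- Blackburn's list in the present notation. -/
theorem cases (hp2 : p ≠ 2) (hT : Nat.card T = p ^ n) (hr : PRankLE p 2 T) :
    IsMetacyclic T ∨ (∃ a b c : T, Two p n a b c) ∨ (∃ (s : ℕ) (a b c : T), Three p n s a b c) ∨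
      (p = 3 ∧ 2 ≤ n ∧ gam T (n - 2) ≠ ⊥) := by
  rcases S3888.result hp2 n hT hr with h | ⟨h3, a, b, c, h1, ha, hb, hc, ac, bc, ab⟩ |
    ⟨h4, s, a, b, c, hs, h1, ha, hb, hc, bc, ab, ac⟩ | h
  · exact .inl h
  · refine .inr (.inl ⟨a, b, c, ⟨hT, h3, h1, ha, hb, hc, bc, ?_, ?_⟩, ac, ab⟩)
    · rw [ab]
      exact mul_mem (mem_sup_left (mem_zpowers _)) (mem_sup_right (pow_mem (mem_zpowers _) _))
    · rw [mul_assoc, ← ac, inv_mul_cancel_left]
      exact mem_sup_right (mem_zpowers _)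
  · refine .inr (.inr (.inl ⟨s, a, b, c, ⟨hT, by omega, h1, ha, hb, hc, bc, ?_, ?_⟩, h4, ?_, ab, ac⟩))
    · rw [ab]
      exact mul_mem (mem_sup_left (mem_zpowers _)) (mem_sup_right (pow_mem (mem_zpowers _) _))
    · rw [ac]
      exact mul_mem (mem_sup_left (mem_zpowers _)) (mem_sup_right (mem_zpowers _))
    · intro hd
      rcases hs with rfl | hs
      · exact hp.out.one_lt.ne' (Nat.dvd_one.1 hd)
      · rw [(ZMod.natCast_eq_zero_iff s p).2 hd] at hs
        exact hs IsSquare.zero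
  · exact .inr (.inr (.inr h))

theorem yf_of_rank (hp2 : p ≠ 2) (hT : IsPGroup p T) (hr : PRankLE p 2 T) : YF p T := by
  obtain ⟨n, hn⟩ := hT.exists_card_eq
  have h2 := hp.out.two_le
  have hmc : p = 3 → 2 ≤ n → gam T (n - 2) ≠ ⊥ → YF p T := by
    rintro rfl h2 h
    by_cases h4 : 4 ≤ n
    · exact yf_mc (isMC_of_ne hn (by omega) h) hr h4
    · exact yf_of_le (by omega) (gam_eq_bot hn h2)
  rcases cases hp2 hn hr with h | ⟨a, b, c, h⟩ | ⟨s, a, b, c, h⟩ | h
  · exact yf_meta hp2 hT h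
  · exact yf_of_le (by omega) h.gam_two
  · rcases h.four.eq_or_lt with rfl | h5
    · by_cases h3 : p = 3
      · by_cases hb : gam T 2 = ⊥
        · exact yf_of_le (by omega) hb
        · exact hmc h3 (by norm_num) hb
      · exact yf_of_le (by omega) (gam_eq_bot hn (by norm_num))
    · exact h.yf hp2 h5
  · exact hmc h.1 h.2.1 h.2.2

theorem final (hp2 : p ≠ 2) (hT : IsPGroup p T) (hr : PRankLE p 2 T) (hm : ¬ IsMetacyclic T)
    {Γ : Set (MulAut T)} (hΓ : NF Γ) {x : T} (hx : ∀ α ∈ Γ, α x = x) (hxc : x ∈ center T)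
    (hxp : orderOf x = p) :
    (¬ IsMulCommutative T ∧ Nat.card T = p ^ 3 ∧ ∀ y : T, y ^ p = 1) ∨
      (p = 3 ∧ ∃ k : ℕ, 2 ≤ k ∧ Nat.card T = 3 ^ (2 * k + 1) ∧
        ∃ _ : Group.IsNilpotent T, Group.nilpotencyClass T = 2 * k) := by
  obtain ⟨n, hn⟩ := hT.exists_card_eq
  have hna : ¬ IsMulCommutative T := fun hc => by
    have := hΓ ⊥ (by rw [le_bot_iff, commutator_eq_bot]) (fun α _ a ha => by
      rw [mem_bot.1 ha, map_one]; exact one_mem _) x fun α hα => by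
      rw [hx α hα, mul_inv_cancel]; exact one_mem _
    rw [mem_bot.1 this, orderOf_one] at hxp
    exact hp.out.one_lt.ne hxp
  have h3 : 3 ≤ n := by
    by_contra hc
    exact hna (FT.R2.isMulCommutative_of_card_le_sq hT
      (hn ▸ Nat.pow_le_pow_right hp.out.pos (by omega)))
  rcases h3.eq_or_lt with rfl | h4
  · refine .inl ⟨hna, hn, fun y => by_contra fun hy => hm ?_⟩
    have hi : (zpowers y).index ≤ p := by
      obtain ⟨k, hk⟩ := (hT.to_subgroup (zpowers y)).exists_card_eq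
      have hk2 : 2 ≤ k := by
        by_contra hc
        refine hy (orderOf_dvd_iff_pow_eq_one.1 ?_)
        rw [← Nat.card_zpowers, hk]
        exact (pow_dvd_pow p (by omega : k ≤ 1)).trans (by rw [pow_one])
      have h1 := card_mul_index (zpowers y)
      refine Nat.le_of_mul_le_mul_left ?_ (pow_pos hp.out.pos 2)
      calc p ^ 2 * (zpowers y).index ≤ p ^ k * (zpowers y).index :=
            Nat.mul_le_mul_right _ (Nat.pow_le_pow_right hp.out.pos hk2)
        _ = p ^ 2 * p := by rw [← hk, h1, hn, pow_succ]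
    obtain ⟨e, he⟩ := FT.R2.exists_sup_zpowers_of_index_le hT hi
    refine FT.R2.isMetacyclic_iff.2 ⟨y, e, ?_, he⟩
    obtain ⟨k, hk⟩ := hT.index (zpowers y)
    have : k ≤ 1 := (Nat.pow_le_pow_iff_right hp.out.one_lt).1 (by rwa [pow_one, ← hk])
    rcases Nat.le_one_iff_eq_zero_or_eq_one.1 this with rfl | rfl
    · rw [pow_zero, index_eq_one] at hk
      rw [hk]; infer_instance
    · exact FGS.normal_of_index_eq_prime hT (by rw [hk, pow_one])
  rcases cases hp2 hn hr with h | ⟨a, b, c, h⟩ | ⟨s, a, b, c, h⟩ | ⟨rfl, -, h⟩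
  · exact absurd h hm
  · exact (h.false hp2 hr h4 hΓ hx hxc hxp).elim
  · exact (h.false hr hΓ hx hxc hxp).elim
  · have hmc := isMC_of_ne hn h3 h
    obtain ⟨k, rfl⟩ := odd_of_mc hmc hr h4 hΓ hx hxc hxp
    exact .inr ⟨rfl, k, by omega, hn, hT.isNilpotent, by rw [hmc.cl]; omega⟩

end Cfsg.Agent.ZP.Rk2
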